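import Cfsg.Agent.H613.KS.Defs

/-!
# S4577: a configuration has no large normal 2-subgroup in the centralizer of an involution (helper854)
-/

set_option autoImplicit false

open Cfsg Cfsg.Agent.H613.KS Subgroup

namespace Cfsg.Agent.H854.KS

/-- a normal 2-subgroup of `C(z)`, `z ∈ D`, has order at most 16 -/
theorem card_le {S : Type*} [Group S] {D : Subgroup S} {x : S} (h : Cfg D x) {z : S} (hz : z ∈ D)
    {N : Subgroup S} (hN2 : IsPGroup 2 N) (hNz : N ≤ centralizer {z})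
    (hNn : ∀ c ∈ centralizer ({z} : Set S), ∀ n ∈ N, c * n * c⁻¹ ∈ N) : Nat.card N ≤ 16 := by
  have hC : centralizer ((zpowers z : Subgroup S) : Set S) = centralizer {z} := by
    rw [zpowers_eq_closure, centralizer_closure]
  have h1 := h.rad (zpowers z) (zpowers_le.2 hz) N hN2 (by rw [hC]; exact hNz) (by rw [hC]; exact hNn)
  have hf : Finite D := Nat.finite_of_card_ne_zero (by rw [h.e16.card]; norm_num)
  rw [← h.e16.card]
  exact Nat.card_le_card_of_injective (Subgroup.inclusion h1) (Subgroup.inclusion_injective h1)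

/-- an involution in `D` -/
theorem exists_inv {S : Type*} [Group S] {D : Subgroup S} {x : S} (h : Cfg D x) : ∃ z ∈ D, orderOf z = 2 := by
  have hf : Finite D := Nat.finite_of_card_ne_zero (by rw [h.e16.card]; norm_num)
  have : Nontrivial D := Finite.one_lt_card_iff_nontrivial.1 (by rw [h.e16.card]; norm_num)
  obtain ⟨z, hz⟩ := exists_ne (1 : D)
  refine ⟨z, z.2, orderOf_eq_prime (by rw [pow_two]; exact h.e16.inv z z.2) fun h1 => hz (Subtype.ext h1)⟩

/-- **if every involution has a normal 2-subgroup of order more than 16 in its centralizer, there is no configuration** -/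
theorem noCfg_of {S : Type*} [Group S]
    (h : ∀ z : S, orderOf z = 2 → ∃ N : Subgroup S, IsPGroup 2 N ∧ N ≤ centralizer {z} ∧
      (∀ c ∈ centralizer ({z} : Set S), ∀ n ∈ N, c * n * c⁻¹ ∈ N) ∧ 16 < Nat.card N) : NoCfg S := by
  intro D x hc
  obtain ⟨z, hz, hz2⟩ := exists_inv hc
  obtain ⟨N, h1, h2, h3, h4⟩ := h z hz2
  have := card_le hc hz h1 h2 h3
  omega

/-- transport of the hypothesis of `noCfg_of` along a conjugation -/
theorem big_conj {S : Type*} [Group S] {z g : S} {m : ℕ}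
    (h : ∃ N : Subgroup S, IsPGroup 2 N ∧ N ≤ centralizer {z} ∧
      (∀ c ∈ centralizer ({z} : Set S), ∀ n ∈ N, c * n * c⁻¹ ∈ N) ∧ m < Nat.card N) :
    ∃ N : Subgroup S, IsPGroup 2 N ∧ N ≤ centralizer {g * z * g⁻¹} ∧
      (∀ c ∈ centralizer ({g * z * g⁻¹} : Set S), ∀ n ∈ N, c * n * c⁻¹ ∈ N) ∧ m < Nat.card N := by
  obtain ⟨N, h1, h2, h3, h4⟩ := h
  have hc : ∀ {c : S}, c ∈ centralizer ({g * z * g⁻¹} : Set S) → g⁻¹ * c * g ∈ centralizer ({z} : Set S) := by
    intro c hc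
    rw [mem_centralizer_singleton_iff] at hc ⊢
    calc g⁻¹ * c * g * z = g⁻¹ * (c * (g * z * g⁻¹)) * g := by group
      _ = g⁻¹ * (g * z * g⁻¹ * c) * g := by rw [hc]
      _ = _ := by group
  refine ⟨N.map (MulAut.conj g).toMonoidHom, h1.map _, ?_, ?_, ?_⟩
  · rintro _ ⟨n, hn, rfl⟩
    have h5 := mem_centralizer_singleton_iff.1 (h2 hn)
    rw [mem_centralizer_singleton_iff]
    show g * n * g⁻¹ * (g * z * g⁻¹) = g * z * g⁻¹ * (g * n * g⁻¹)
    calc g * n * g⁻¹ * (g * z * g⁻¹) = g * (n * z) * g⁻¹ := by group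
      _ = g * (z * n) * g⁻¹ := by rw [h5]
      _ = _ := by group
  · rintro c hcc _ ⟨n, hn, rfl⟩
    refine ⟨g⁻¹ * c * g * n * (g⁻¹ * c * g)⁻¹, h3 _ (hc hcc) n hn, ?_⟩
    show g * (g⁻¹ * c * g * n * (g⁻¹ * c * g)⁻¹) * g⁻¹ = c * (g * n * g⁻¹) * c⁻¹
    group
  · rw [Subgroup.card_map_of_injective (MulAut.conj g).injective]
    exact h4

end Cfsg.Agent.H854.KS
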