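import Cfsg.Agent.H854.KS.Big
import Cfsg.Agent.EvenType.CharTwoCent
import Cfsg.Agent.Lib.Cores

/-!
# S4577: groups of characteristic 2 type (helper854, after helper651's `H651/KKL/Base`)
-/

set_option autoImplicit false

open Cfsg Cfsg.Agent.H613.KS Subgroup

namespace Cfsg.Agent.H854.KS

variable {S : Type*} [Group S] {D : Subgroup S} {x : S}

theorem comm_D (h : Cfg D x) {a b : S} (ha : a ∈ D) (hb : b ∈ D) : a * b = b * a := by
  have h1 := h.e16.inv _ (D.mul_mem ha hb)
  have h2 := h.e16.inv _ ha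
  have h3 := h.e16.inv _ hb
  calc a * b = b * b * (a * b) * (a * a) := by rw [h3, h2]; group
    _ = b * (b * a * (b * a)) * a := by group
    _ = b * a := by rw [h.e16.inv _ (D.mul_mem hb ha)]; group

/-- normal 2-subgroups of the centralizer of an element of `D` lie in `D` -/
theorem le_D (h : Cfg D x) {z : S} (hz : z ∈ D) {N : Subgroup S} (hN2 : IsPGroup 2 N)
    (hNz : N ≤ centralizer {z}) (hNn : ∀ c ∈ centralizer ({z} : Set S), ∀ n ∈ N, c * n * c⁻¹ ∈ N) : N ≤ D := by
  have hC : centralizer ((zpowers z : Subgroup S) : Set S) = centralizer {z} := by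
    rw [zpowers_eq_closure, centralizer_closure]
  exact h.rad (zpowers z) (zpowers_le.2 hz) N hN2 (by rw [hC]; exact hNz) (by rw [hC]; exact hNn)

/-- `C(z)`, `z ∈ D#`, is not of characteristic 2 if `32 ∣ |S|`. -/
theorem kill_charTwo [Finite S] (h : Cfg D x) {z : S} (hz : z ∈ D)
    (hc : IsOfCharacteristicTwo ↥(centralizer ({z} : Set S))) (h32 : 32 ∣ Nat.card S) : False := by
  set C := centralizer ({z} : Set S) with hC
  have hN2 : IsPGroup 2 ↥((pCore 2 ↥C).map C.subtype) := by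
    have : IsPGroup 2 ↥(pCore 2 ↥C) := Cfsg.Agent.Lib.Cores.pCore_isPGroup 2
    exact this.map _
  have hle : (pCore 2 ↥C).map C.subtype ≤ D := by
    refine le_D h hz hN2 (map_subtype_le _) ?_
    rintro c hcC _ ⟨n, hn, rfl⟩
    exact ⟨⟨c, hcC⟩ * n * ⟨c, hcC⟩⁻¹, (Cfsg.Agent.Lib.Cores.pCore_normal (G := ↥C) 2).conj_mem n hn _, rfl⟩
  have hxC : x ∈ C := mem_centralizer_singleton_iff.2 (h.comm z hz).symm
  have key : ∀ c : S, c ∈ C → (∀ d ∈ D, d * c = c * d) → c ∈ D := by
    intro c hcC hcd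
    refine hle ⟨⟨c, hcC⟩, hc (mem_centralizer_iff.2 fun n hn => Subtype.ext ?_), rfl⟩
    exact hcd n (hle ⟨n, hn, rfl⟩)
  have hx1 : x = 1 := by
    have h1 := h.e16.inv x (key x hxC fun d hd => h.comm d hd)
    have h2 := h.odd
    have h3 : orderOf x ∣ 2 := orderOf_dvd_of_pow_eq_one (by rw [pow_two, h1])
    rcases (Nat.dvd_prime Nat.prime_two).1 h3 with h4 | h4
    · exact orderOf_eq_one_iff.1 h4
    · rw [h4] at h2; exact absurd h2 (by decide)
  obtain ⟨Q, hQ⟩ := Sylow.exists_subgroup_card_pow_prime (G := S) 2 (n := 5) (by norm_num; exact h32)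
  have hQ2 : IsPGroup 2 Q := IsPGroup.of_card hQ
  obtain ⟨c, -, hcQ⟩ := h.syl Q hQ2 fun q _ => by rw [hx1, mul_one, one_mul]
  have h5 : Q.map (MulAut.conj c).toMonoidHom ≤ D := by
    rintro _ ⟨q, hq, rfl⟩
    exact hcQ q hq
  have h6 := Nat.card_le_card_of_injective (inclusion h5) (inclusion_injective h5)
  rw [h.e16.card, Subgroup.card_map_of_injective (MulAut.conj c).injective, hQ] at h6
  omega

/-- **Groups of characteristic 2 type.** -/
theorem charTwo [Finite S] (hc : IsCharacteristicTwoType S) (h32 : 32 ∣ Nat.card S) : NoCfg S := by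
  intro D x h
  obtain ⟨z, hz, ht⟩ := exists_inv h
  exact kill_charTwo h hz (EvenType.CharTwoCent.char2_centralizer hc ht) h32

end Cfsg.Agent.H854.KS
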