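import Cfsg.Agent.H854.KS.CharTwo
import Cfsg.Agent.SevenCases.SporCo2
import Cfsg.Agent.SevenCases.SporTh
import Cfsg.Agent.BiChar.SmallCard
import Cfsg.Agent.Th.Main1700

/-!
# S4577: the rows `Co₂`, `Th` (helper854): characteristic 2 type
-/

set_option autoImplicit false

open Cfsg Subgroup Cfsg.Agent.H613.KS

namespace Cfsg.Agent.H854.KS

universe u

variable {S : Type u} [Group S] [Finite S]

/-- **row `Co2` of S4577** -/
theorem E_Co2 (h : Spor.IsoCo2 S) : NoCfg S := by
  refine charTwo (SevenCases.SporCo2.charTwo h) ?_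
  obtain ⟨e⟩ := h
  rw [Nat.card_congr e.toEquiv, BiChar.Small.card_Co2]
  norm_num

/-- **row `Th` of S4577** -/
theorem E_Th (h : Spor.IsoTh S) : NoCfg S := by
  refine charTwo (SevenCases.SporTh.charTwo h) ?_
  obtain ⟨e⟩ := h
  rw [Nat.card_congr e.toEquiv, Cfsg.Agent.Th.Main1700.final.2.1]
  norm_num

end Cfsg.Agent.H854.KS
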